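import Groth.Agent.H23FunFld.Rational
import Mathlib.FieldTheory.IsAlgClosed.Basic

/-! Vanishing filtrations and weights of linear series on a function field. -/

set_option autoImplicit false
set_option linter.unusedSectionVars false

namespace Groth.Agent.H23LinSer

open Groth.Agent.H23FunFld

variable {k K : Type*} [Field k] [Field K] [Algebra k K]

/-- `dim (V ∩ L(D - nP))`. -/
noncomputable def vd (V : Submodule k K) (D : FunFld.Divisor k K) (P : FunFld.Place k K) (n : ℤ) :
    ℕ :=
  Module.finrank k ↥(V ⊓ FunFld.L (D - Finsupp.single P n))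

/-- The weight: the sum of the vanishing orders of `V` at `P`. -/
noncomputable def wt (V : Submodule k K) (D : FunFld.Divisor k K) (P : FunFld.Place k K) (d : ℕ) :
    ℕ :=
  ∑ n ∈ Finset.range d, vd V D P ((n : ℤ) + 1)

variable [IsAlgClosed k] (hK : FunFld.IsFunctionField k K)
include hK

theorem deg_eq_one (P : FunFld.Place k K) : P.deg = 1 := by
  have : Algebra.IsIntegral k (IsLocalRing.ResidueField P.O) :=
    @Algebra.IsIntegral.of_finite k _ _ _ _ (finiteDimensional_residueField hK P)
  have hbij := IsAlgClosed.algebraMap_bijective_of_isIntegral (k := k)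
    (K := IsLocalRing.ResidueField P.O)
  have := (AlgEquiv.ofBijective (Algebra.ofId k (IsLocalRing.ResidueField P.O)) hbij).toLinearEquiv.finrank_eq
  rw [Module.finrank_self] at this
  exact this.symm

theorem deg_sub_single (D : FunFld.Divisor k K) (P : FunFld.Place k K) (n : ℤ) :
    (D - Finsupp.single P n).deg = D.deg - n := by
  rw [deg_sub, deg_single, deg_eq_one hK P]; simp

theorem exists_sub_const {P : FunFld.Place k K} {x : K} (hx : P.1 x ≤ 1) :
    ∃ c : k, P.1 (x - algebraMap k K c) < 1 := by
  have : Algebra.IsIntegral k (IsLocalRing.ResidueField P.O) :=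
    @Algebra.IsIntegral.of_finite k _ _ _ _ (finiteDimensional_residueField hK P)
  obtain ⟨c, hc⟩ := (IsAlgClosed.algebraMap_bijective_of_isIntegral (k := k)
    (K := IsLocalRing.ResidueField P.O)).2 (IsLocalRing.residue P.O ⟨x, hx⟩)
  refine ⟨c, ?_⟩
  have h0 : IsLocalRing.residue P.O (⟨x, hx⟩ - algebraMap k P.O c) = 0 := by
    rw [map_sub, sub_eq_zero]; exact hc.symm
  rw [IsLocalRing.residue_eq_zero_iff, ValuationSubring.valuation_lt_one_iff,
    ← P.1.isEquiv_valuation_valuationSubring.lt_one_iff_lt_one] at h0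
  exact h0

theorem ell_le_toNat (E : FunFld.Divisor k K) : FunFld.ell E ≤ (E.deg + 1).toNat := by
  rcases Nat.eq_zero_or_pos (FunFld.ell E) with h | h
  · omega
  · obtain ⟨x, hx, hx'⟩ := exists_effective hK h
    have h1 := ell_le_deg hK hx'
    rw [ell_eq_of_eq_add_div hK hx, deg_add, deg_div hK, add_zero] at h1
    omega

theorem ell_le_one_of_deg_zero {E : FunFld.Divisor k K} (h : E.deg = 0) : FunFld.ell E ≤ 1 := by
  have := ell_le_toNat hK E
  omega

theorem ell_le_one_of_deg_le_one (hg : 0 < FunFld.genus k K) {E : FunFld.Divisor k K}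
    (h : E.deg ≤ 1) : FunFld.ell E ≤ 1 := by
  classical
  rcases lt_or_eq_of_le h with h' | h'
  · have := ell_le_toNat hK E
    omega
  by_contra h2
  obtain ⟨x, hx, hx'⟩ := exists_effective hK (D := E) (by omega)
  set E' := E + FunFld.div k x
  have hE' : FunFld.ell E' = FunFld.ell E := ell_eq_of_eq_add_div hK hx
  have hdeg : E'.deg = 1 := by rw [deg_add, deg_div hK, h', add_zero]
  have hne : E' ≠ 0 := by
    intro h0
    rw [h0, deg_zero] at hdeg
    omega
  obtain ⟨P, hP⟩ := Finsupp.support_nonempty_iff.2 hne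
  have hP1 : Finsupp.single P 1 ≤ E' := by
    intro Q
    rw [Finsupp.single_apply]
    split
    · rename_i hPQ
      subst hPQ
      have h1 := Finsupp.mem_support_iff.1 hP
      have h2' := hx' P
      simp only [Finsupp.coe_zero, Pi.zero_apply] at h2'
      omega
    · exact hx' Q
  have := deg_nonneg_lt hK (sub_nonneg.2 hP1)
    (by rw [deg_sub, hdeg, deg_single, deg_eq_one hK P]; simp)
  rw [sub_eq_zero] at this
  have hL : ∃ y ∈ FunFld.L E', y ∉ FunFld.L (0 : FunFld.Divisor k K) := by
    by_contra hcon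
    simp only [not_exists, not_and, not_not] at hcon
    have := finiteDimensional_L hK (0 : FunFld.Divisor k K)
    have h1 : FunFld.ell E' ≤ FunFld.ell (0 : FunFld.Divisor k K) :=
      Submodule.finrank_mono (fun y hy => hcon y hy)
    rw [ell_zero hK] at h1
    omega
  obtain ⟨y, hy, hy0⟩ := hL
  have hyne : y ≠ 0 := fun h => hy0 (h ▸ Submodule.zero_mem _)
  have hc : y ∉ Set.range (algebraMap k K) := fun ⟨c, hc⟩ =>
    hy0 (hc ▸ fun Q => by simpa using Q.2.1 c)
  have hall : ∀ Q, Q ≠ P → 0 ≤ Q.ord y := fun Q hQ => by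
    have := (val_le_exp_iff Q hyne).1 (hy Q)
    rw [‹E' = Finsupp.single P 1›, Finsupp.single_eq_of_ne hQ] at this
    omega
  obtain ⟨Q, hQ⟩ := exists_pole hK hc
  have hQP : Q = P := by
    by_contra hn
    have := hall Q hn
    omega
  subst hQP
  have hle := (val_le_exp_iff Q hyne).1 (hy Q)
  rw [‹E' = Finsupp.single Q 1›, Finsupp.single_eq_same] at hle
  have := (genus_zero_of_adjoin_top hK (adjoin_eq_top_of_simple_pole hK (deg_eq_one hK Q)
    (by omega) hall)).1
  omega

theorem finiteDimensional_of_le_L {V : Submodule k K} {D : FunFld.Divisor k K}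
    (h : V ≤ FunFld.L D) : FiniteDimensional k V :=
  have := finiteDimensional_L hK D
  Submodule.finiteDimensional_of_le h

theorem finiteDimensional_vd (V : Submodule k K) (E : FunFld.Divisor k K) :
    FiniteDimensional k ↥(V ⊓ FunFld.L E) :=
  finiteDimensional_of_le_L hK inf_le_right

theorem vd_zero {V : Submodule k K} {D : FunFld.Divisor k K} (h : V ≤ FunFld.L D)
    (P : FunFld.Place k K) : vd V D P 0 = Module.finrank k V := by
  rw [vd, Finsupp.single_zero, sub_zero, inf_eq_left.2 h]

theorem vd_anti {V : Submodule k K} {D : FunFld.Divisor k K} (P : FunFld.Place k K) {m n : ℤ}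
    (h : m ≤ n) : vd V D P n ≤ vd V D P m := by
  have := finiteDimensional_vd hK V (D - Finsupp.single P m)
  exact Submodule.finrank_mono (inf_le_inf_left _
    (L_mono (sub_le_sub_left (Finsupp.single_mono h) D)))

theorem vd_le_ell (V : Submodule k K) (D : FunFld.Divisor k K) (P : FunFld.Place k K) (n : ℤ) :
    vd V D P n ≤ FunFld.ell (D - Finsupp.single P n) :=
  have := finiteDimensional_L hK (D - Finsupp.single P n)
  Submodule.finrank_mono inf_le_right

theorem vd_eq_zero {V : Submodule k K} {D : FunFld.Divisor k K} (P : FunFld.Place k K) {n : ℤ}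
    (h : D.deg < n) : vd V D P n = 0 := by
  have h1 := vd_le_ell hK V D P n
  have h2 := ell_le_toNat hK (D - Finsupp.single P n)
  rw [deg_sub_single hK] at h2
  omega

theorem vd_le_succ (V : Submodule k K) (D : FunFld.Divisor k K) (P : FunFld.Place k K) (n : ℤ) :
    vd V D P n ≤ vd V D P (n + 1) + 1 := by
  set E := D - Finsupp.single P n
  set E' := D - Finsupp.single P (n + 1)
  have hle : E' ≤ E := sub_le_sub_left (Finsupp.single_mono (by omega)) D
  have := finiteDimensional_L hK E
  have := finiteDimensional_L hK E'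
  have := finiteDimensional_vd hK V E
  have h := Submodule.finrank_sup_add_finrank_inf_eq (V ⊓ FunFld.L E) (FunFld.L E')
  rw [inf_assoc, inf_eq_right.2 (L_mono hle)] at h
  have h2 : Module.finrank k ↥(V ⊓ FunFld.L E ⊔ FunFld.L E') ≤ FunFld.ell E :=
    Submodule.finrank_mono (sup_le inf_le_right (L_mono hle))
  have h3 := ell_sub_le hK hle
  rw [deg_sub_single hK, deg_sub_single hK] at h3
  have h4 : FunFld.ell E' = Module.finrank k (FunFld.L E') := rfl
  change Module.finrank k ↥(V ⊓ FunFld.L E) ≤ Module.finrank k ↥(V ⊓ FunFld.L E') + 1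
  omega

theorem le_vd_add {V : Submodule k K} {D : FunFld.Divisor k K} (h : V ≤ FunFld.L D)
    (P : FunFld.Place k K) {r : ℕ} (hr : Module.finrank k V = r + 1) (n : ℕ) :
    r + 1 ≤ vd V D P n + n := by
  induction n with
  | zero => rw [Nat.cast_zero, vd_zero hK h, hr]
  | succ n ih =>
    have := vd_le_succ hK V D P n
    push_cast
    omega

theorem r_le_deg {V : Submodule k K} {D : FunFld.Divisor k K} (h : V ≤ FunFld.L D) {d r : ℕ}
    (hD : D.deg = d) (hr : Module.finrank k V = r + 1) : r ≤ d := by
  obtain ⟨P⟩ := nonempty_place hK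
  have h1 := le_vd_add hK h P hr (d + 1)
  rw [vd_eq_zero hK P (by rw [hD]; push_cast; omega)] at h1
  omega

theorem inf_L_eq {P Q : FunFld.Place k K} (hPQ : P ≠ Q) (D : FunFld.Divisor k K) {a b : ℤ}
    (ha : 0 ≤ a) (hb : 0 ≤ b) :
    FunFld.L (D - Finsupp.single P a) ⊓ FunFld.L (D - Finsupp.single Q b) =
      FunFld.L (D - Finsupp.single P a - Finsupp.single Q b) := by
  refine le_antisymm (fun x hx R => ?_) (le_inf (L_mono ?_) (L_mono ?_))
  · rcases eq_or_ne R P with rfl | hRP
    · rw [Finsupp.sub_apply, Finsupp.single_eq_of_ne hPQ, sub_zero]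
      exact hx.1 R
    · have e : (D - Finsupp.single P a - Finsupp.single Q b : FunFld.Divisor k K) R =
          (D - Finsupp.single Q b : FunFld.Divisor k K) R := by
        simp [Finsupp.single_eq_of_ne hRP]
      rw [e]
      exact hx.2 R
  · exact sub_le_self _ (Finsupp.single_nonneg.2 hb)
  · rw [sub_sub, add_comm, ← sub_sub]
    exact sub_le_self _ (Finsupp.single_nonneg.2 ha)

theorem vd_add_vd_le {V : Submodule k K} {D : FunFld.Divisor k K} (h : V ≤ FunFld.L D)
    {P Q : FunFld.Place k K} (hPQ : P ≠ Q) {a b : ℤ} (ha : 0 ≤ a) (hb : 0 ≤ b) :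
    vd V D P a + vd V D Q b ≤ Module.finrank k V +
      Module.finrank k ↥(V ⊓ FunFld.L (D - Finsupp.single P a - Finsupp.single Q b)) := by
  have := finiteDimensional_of_le_L hK h
  have := finiteDimensional_vd hK V (D - Finsupp.single P a)
  have := finiteDimensional_vd hK V (D - Finsupp.single Q b)
  have h1 := Submodule.finrank_sup_add_finrank_inf_eq (V ⊓ FunFld.L (D - Finsupp.single P a))
    (V ⊓ FunFld.L (D - Finsupp.single Q b))
  rw [← inf_inf_distrib_left, inf_L_eq hK hPQ D ha hb] at h1
  have h2 : Module.finrank k ↥(V ⊓ FunFld.L (D - Finsupp.single P a) ⊔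
      V ⊓ FunFld.L (D - Finsupp.single Q b)) ≤ Module.finrank k V :=
    Submodule.finrank_mono (sup_le inf_le_left inf_le_left)
  unfold vd
  omega

theorem vd_add_vd_le_of_deg {V : Submodule k K} {D : FunFld.Divisor k K} (h : V ≤ FunFld.L D)
    {P Q : FunFld.Place k K} (hPQ : P ≠ Q) {a b : ℤ} (ha : 0 ≤ a) (hb : 0 ≤ b)
    (hab : D.deg < a + b) : vd V D P a + vd V D Q b ≤ Module.finrank k V := by
  have h1 := vd_add_vd_le hK h hPQ ha hb
  rw [L_eq_bot_of_deg_neg hK (by rw [deg_sub_single hK, deg_sub_single hK]; omega), inf_bot_eq,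
    finrank_bot] at h1
  omega

theorem wt_add_wt_le {V : Submodule k K} {D : FunFld.Divisor k K} (h : V ≤ FunFld.L D) {d r : ℕ}
    (hD : D.deg = d) (hr : Module.finrank k V = r + 1) {P Q : FunFld.Place k K} (hPQ : P ≠ Q) :
    wt V D P d + wt V D Q d ≤ (r + 1) * d := by
  unfold wt
  rw [← Finset.sum_range_reflect (fun n => vd V D Q ((n : ℤ) + 1)), ← Finset.sum_add_distrib]
  refine (Finset.sum_le_sum (g := fun _ => r + 1) fun n hn => ?_).trans (by simp [mul_comm])
  rw [Finset.mem_range] at hn
  rw [← hr]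
  exact vd_add_vd_le_of_deg hK h hPQ (by omega) (by omega) (by rw [hD]; omega)

omit [IsAlgClosed k] hK in
theorem wt_add_wt_eq {L : Type*} [Field L] [Algebra k L] {V : Submodule k K}
    {D : FunFld.Divisor k K} {V' : Submodule k L} {D' : FunFld.Divisor k L} {d r : ℕ}
    {P : FunFld.Place k K} {Q : FunFld.Place k L}
    (hcomp : ∀ m : ℕ, m ≤ d + 1 → vd V D P (m : ℤ) + vd V' D' Q ((d : ℤ) + 1 - m) = r + 1) :
    wt V D P d + wt V' D' Q d = (r + 1) * d := by
  unfold wt
  rw [← Finset.sum_range_reflect (fun n => vd V' D' Q ((n : ℤ) + 1)), ← Finset.sum_add_distrib]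
  rw [Finset.sum_congr rfl (g := fun _ => r + 1) fun n hn => ?_]
  · simp [mul_comm]
  rw [Finset.mem_range] at hn
  have := hcomp (n + 1) (by omega)
  push_cast at this
  convert this using 3
  omega

omit [IsAlgClosed k] hK in
theorem two_mul_sum_range_sub (r : ℕ) : 2 * ∑ n ∈ Finset.range r, (r - n) = r * (r + 1) := by
  induction r with
  | zero => simp
  | succ r ih =>
    rw [Finset.sum_range_succ' (fun n => r + 1 - n)]
    simp only [Nat.add_sub_add_right, Nat.sub_zero]
    rw [mul_add, ih]
    ring

theorem wt_lower {V : Submodule k K} {D : FunFld.Divisor k K} (h : V ≤ FunFld.L D) {d r : ℕ}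
    (hD : D.deg = d) (hr : Module.finrank k V = r + 1) (P : FunFld.Place k K) :
    r * (r + 1) ≤ 2 * wt V D P d := by
  rw [← two_mul_sum_range_sub r]
  refine Nat.mul_le_mul_left 2 ((Finset.sum_le_sum fun n _ => ?_).trans
    (Finset.sum_le_sum_of_subset (Finset.range_mono (r_le_deg hK h hD hr))))
  have h1 := le_vd_add hK h P hr (n + 1)
  push_cast at h1
  omega

/-- A cusp has weight at least `r (r+1)/2 + r`. -/
theorem wt_cusp {V : Submodule k K} {D : FunFld.Divisor k K} (h : V ≤ FunFld.L D) {d r : ℕ}
    (hD : D.deg = d) (hr : Module.finrank k V = r + 1) (P : FunFld.Place k K)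
    (hc : r ≤ vd V D P 2) : r * (r + 1) + 2 * r ≤ 2 * wt V D P d := by
  rcases Nat.eq_zero_or_pos r with rfl | hr0
  · simp
  have hrd : r + 1 ≤ d := by
    by_contra hlt
    have h1 : ∀ j : ℕ, r ≤ vd V D P (2 + j) + j := by
      intro j
      induction j with
      | zero => simpa using hc
      | succ j ih =>
        have := vd_le_succ hK V D P (2 + j)
        push_cast
        rw [show (2 : ℤ) + ((j : ℤ) + 1) = 2 + (j : ℤ) + 1 by ring]
        omega
    have h2 := h1 (r - 1)
    rw [vd_eq_zero hK P (by rw [hD]; omega)] at h2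
    omega
  have h1 : ∀ n : ℕ, (if n = 0 then r else r + 1 - (n + 1) + 1) ≤ vd V D P ((n : ℤ) + 1) ∨ r < n := by
    intro n
    induction n with
    | zero =>
      left
      rw [if_pos rfl]
      exact hc.trans (vd_anti hK P (by simp))
    | succ n ih =>
      rcases n with _ | n
      · left
        simp only [Nat.zero_add, Nat.add_eq_zero_iff, one_ne_zero, and_false, if_false]
        push_cast
        norm_num
        omega
      · rcases ih with ih | ih
        · by_cases hn : r < n + 1 + 1
          · exact Or.inr hn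
          left
          have := vd_le_succ hK V D P (((n + 1 : ℕ) : ℤ) + 1)
          simp only [Nat.add_eq_zero_iff, one_ne_zero, and_false, if_false] at ih ⊢
          push_cast at this ih ⊢
          omega
        · right; omega
  have h2 : ∑ n ∈ Finset.range (r + 1), (if n = 0 then r else r + 1 - (n + 1) + 1) ≤ wt V D P d := by
    refine le_trans (Finset.sum_le_sum fun n hn => ?_)
      (Finset.sum_le_sum_of_subset (Finset.range_mono hrd))
    rw [Finset.mem_range] at hn
    exact (h1 n).resolve_right (by omega)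
  rw [Finset.sum_range_succ'] at h2
  simp only [Nat.add_eq_zero_iff, one_ne_zero, and_false, if_false, if_true] at h2
  have h3 : ∑ n ∈ Finset.range r, (r - n) ≤ ∑ n ∈ Finset.range r, (r + 1 - (n + 1 + 1) + 1) :=
    Finset.sum_le_sum fun n hn => by rw [Finset.mem_range] at hn; omega
  have h4 := two_mul_sum_range_sub r
  omega

/-- In positive genus the weight is at most `(r+1) d - r (r+1)/2 - r`. -/
theorem wt_le_of_genus_pos (hg : 0 < FunFld.genus k K) {V : Submodule k K}
    {D : FunFld.Divisor k K} (h : V ≤ FunFld.L D) {d r : ℕ}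
    (hD : D.deg = d) (hr : Module.finrank k V = r + 1) (P : FunFld.Place k K) :
    2 * wt V D P d + r * (r + 1) + 2 * r ≤ 2 * ((r + 1) * d) := by
  rcases Nat.eq_zero_or_pos r with rfl | hr0
  · have : wt V D P d ≤ ∑ n ∈ Finset.range d, 1 := Finset.sum_le_sum fun n hn => by
      have h0 := vd_anti (V := V) (D := D) hK P (show (0 : ℤ) ≤ (n : ℤ) + 1 by omega)
      rw [vd_zero hK h P, hr] at h0
      simpa using h0
    simp at this
    omega
  rcases Nat.eq_zero_or_pos d with rfl | hd0
  · have := r_le_deg hK h hD hr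
    omega
  obtain ⟨e, rfl⟩ : ∃ e, d = e + 1 := ⟨d - 1, by omega⟩
  have hre : r ≤ e := by
    have h1 := le_vd_add hK h P hr e
    have h2 := vd_le_ell hK V D P e
    have h3 := ell_le_one_of_deg_le_one hK hg (E := D - Finsupp.single P (e : ℤ))
      (by rw [deg_sub_single hK, hD]; push_cast; omega)
    omega
  have hsum : ∀ n : ℕ, n < e → vd V D P ((n : ℤ) + 1) + (n + 1) ≤ e + 1 := by
    intro n hn
    -- go down from `e`, one step at a time
    have key : ∀ j : ℕ, j ≤ e → vd V D P (((e - j : ℕ) : ℤ)) ≤ j + 1 := by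
      intro j
      induction j with
      | zero =>
        intro _
        simpa using (vd_le_ell hK V D P e).trans (ell_le_one_of_deg_le_one hK hg
          (by rw [deg_sub_single hK, hD]; push_cast; omega))
      | succ j ih =>
        intro hj
        have := vd_le_succ hK V D P ((e - (j + 1) : ℕ) : ℤ)
        have e1 : ((e - (j + 1) : ℕ) : ℤ) + 1 = ((e - j : ℕ) : ℤ) := by omega
        rw [e1] at this
        have := ih (by omega)
        omega
    have := key (e - (n + 1)) (by omega)
    rw [show e - (e - (n + 1)) = n + 1 by omega] at this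
    push_cast at this
    omega
  have hlast : vd V D P ((e : ℤ) + 1) ≤ 1 :=
    (vd_le_ell hK V D P _).trans (ell_le_one_of_deg_zero hK
      (by rw [deg_sub_single hK, hD]; push_cast; omega))
  have hall : ∀ n : ℕ, vd V D P ((n : ℤ) + 1) ≤ r + 1 := fun n => by
    rw [← hr, ← vd_zero hK h P]
    exact vd_anti hK P (by omega)
  have hw : wt V D P (e + 1) + ∑ n ∈ Finset.range r, (r - n) ≤ (r + 1) * e + 1 := by
    unfold wt
    rw [Finset.sum_range_succ]
    have h5 : ∑ n ∈ Finset.range e, vd V D P ((n : ℤ) + 1) +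
        ∑ n ∈ Finset.range e, (r - n) ≤ (r + 1) * e := by
      rw [← Finset.sum_range_reflect (fun n => r - n), ← Finset.sum_add_distrib]
      refine (Finset.sum_le_sum (g := fun _ => r + 1) fun n hn => ?_).trans (by simp [mul_comm])
      rw [Finset.mem_range] at hn
      have := hsum n hn
      have := hall n
      omega
    have h6 : ∑ n ∈ Finset.range r, (r - n) ≤ ∑ n ∈ Finset.range e, (r - n) :=
      Finset.sum_le_sum_of_subset (Finset.range_mono hre)
    omega
  have h4 := two_mul_sum_range_sub r
  nlinarith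

end Groth.Agent.H23LinSer
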