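import Groth.Agent.H23LinSer.Basic

/-! A basis adapted to the vanishing filtration at a place. -/

set_option autoImplicit false
set_option linter.unusedSectionVars false

namespace Groth.Agent.H23LinSer

open Groth.Agent.H23FunFld

variable {k K : Type*} [Field k] [Field K] [Algebra k K] [IsAlgClosed k]
  (hK : FunFld.IsFunctionField k K)
include hK

theorem exists_adapted {V : Submodule k K} {D : FunFld.Divisor k K} (h : V ≤ FunFld.L D) {d r : ℕ}
    (hD : D.deg = d) (hr : Module.finrank k V = r + 1) (P : FunFld.Place k K) :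
    ∃ (f : Fin (r + 1) → K) (a : Fin (r + 1) → ℕ), (∀ i, f i ∈ V) ∧ (∀ i, f i ≠ 0) ∧
      Function.Injective a ∧ (∀ i, P.ord (f i) + D P = a i) ∧ (∀ i, a i ≤ d) ∧
      LinearIndependent k f ∧ ∑ i, a i = wt V D P d := by
  classical
  let J := (Finset.range (d + 1)).filter fun n : ℕ => vd V D P ((n : ℤ) + 1) < vd V D P n
  have hstep : ∀ n : ℕ, n ≤ d →
      vd V D P n = vd V D P ((n : ℤ) + 1) + (if n ∈ J then 1 else 0) := by
    intro n hn
    have h1 := vd_le_succ hK V D P n
    have h2 := vd_anti (V := V) (D := D) hK P (show (n : ℤ) ≤ (n : ℤ) + 1 by omega)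
    split
    · rename_i hJ
      have := (Finset.mem_filter.1 hJ).2
      omega
    · rename_i hJ
      simp only [J, Finset.mem_filter, Finset.mem_range] at hJ
      omega
  have hcount : ∀ m : ℕ, m ≤ d + 1 →
      (∑ n ∈ Finset.range m, (if n ∈ J then 1 else 0)) + vd V D P m = r + 1 ∧
      (∑ n ∈ Finset.range m, (if n ∈ J then n else 0)) + m * vd V D P m =
        ∑ n ∈ Finset.range m, vd V D P ((n : ℤ) + 1) := by
    intro m
    induction m with
    | zero => intro _; simp [vd_zero hK h, hr]
    | succ m ih =>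
      intro hm
      obtain ⟨h1, h2⟩ := ih (by omega)
      have h3 := hstep m (by omega)
      simp only [Finset.sum_range_succ]
      push_cast
      split <;> rename_i hJ <;> simp only [hJ, if_true, if_false] at h3 <;>
        constructor <;> first | omega | nlinarith
  obtain ⟨h1, h2⟩ := hcount (d + 1) le_rfl
  have hz : vd V D P ((d + 1 : ℕ) : ℤ) = 0 := vd_eq_zero hK P (by rw [hD]; push_cast; omega)
  rw [hz, add_zero] at h1
  rw [hz, mul_zero, add_zero, Finset.sum_range_succ (fun n => vd V D P ((n : ℤ) + 1))] at h2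
  have hz' : vd V D P ((d : ℤ) + 1) = 0 := by exact_mod_cast hz
  rw [hz', add_zero] at h2
  have hJs : Finset.range (d + 1) ∩ J = J := Finset.inter_eq_right.2 (Finset.filter_subset _ _)
  rw [Finset.sum_ite_mem, hJs] at h1 h2
  simp only [Finset.sum_const, smul_eq_mul, mul_one] at h1
  let e : Fin (r + 1) ≃ J := (J.equivFinOfCardEq h1).symm
  have hex : ∀ n : J, ∃ f ∈ V, f ≠ 0 ∧ P.ord f + D P = ((n : ℕ) : ℤ) := by
    rintro ⟨n, hn⟩
    have hlt := (Finset.mem_filter.1 hn).2
    obtain ⟨f, hf, hf'⟩ : ∃ f ∈ V ⊓ FunFld.L (D - Finsupp.single P (n : ℤ)),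
        f ∉ V ⊓ FunFld.L (D - Finsupp.single P ((n : ℤ) + 1)) := by
      by_contra hcon
      simp only [not_exists, not_and, not_not] at hcon
      have := finiteDimensional_vd hK V (D - Finsupp.single P ((n : ℤ) + 1))
      exact absurd (Submodule.finrank_mono hcon) (not_le.2 hlt)
    have hf0 : f ≠ 0 := fun h0 => hf' (h0 ▸ Submodule.zero_mem _)
    refine ⟨f, hf.1, hf0, ?_⟩
    have ha := (val_le_exp_iff P hf0).1 (hf.2 P)
    rw [Finsupp.sub_apply, Finsupp.single_eq_same] at ha
    by_contra hne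
    simp only at hne
    refine hf' ⟨hf.1, fun Q => ?_⟩
    rw [val_le_exp_iff Q hf0]
    rcases eq_or_ne Q P with rfl | hQ
    · rw [Finsupp.sub_apply, Finsupp.single_eq_same]
      omega
    · have := (val_le_exp_iff Q hf0).1 (hf.2 Q)
      simpa [Finsupp.single_eq_of_ne hQ] using this
  choose f hfV hf0 hford using hex
  refine ⟨fun i => f (e i), fun i => ((e i : J) : ℕ), fun i => hfV _, fun i => hf0 _,
    fun i j hij => e.injective (Subtype.ext hij), fun i => hford _,
    fun i => Nat.lt_succ_iff.1 (Finset.mem_range.1 (Finset.mem_filter.1 (e i).2).1), ?_, ?_⟩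
  · rw [linearIndependent_iff']
    intro s g hg i hi
    by_contra hne
    let s' := s.filter fun j => g j ≠ 0
    obtain ⟨i₀, hi₀, hmin⟩ := s'.exists_min_image (fun j => ((e j : J) : ℕ))
      ⟨i, Finset.mem_filter.2 ⟨hi, hne⟩⟩
    have hg' : ∑ j ∈ s', g j • f (e j) = 0 := by
      refine (Finset.sum_filter_of_ne (p := fun j => g j ≠ 0) (fun j _ hj hg0 => ?_)).trans hg
      exact hj (by rw [hg0, zero_smul])
    rw [← Finset.add_sum_erase _ _ hi₀] at hg'
    have hval : ∀ j ∈ s', P.1 (g j • f (e j)) =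
        WithZero.exp (D P - ((e j : J) : ℕ)) := by
      intro j hj
      rw [Algebra.smul_def, map_mul, val_const P (Finset.mem_filter.1 hj).2, one_mul,
        val_eq_exp P (hf0 _)]
      congr 1
      have := hford (e j)
      omega
    have hlt : P.1 (∑ j ∈ s'.erase i₀, g j • f (e j)) < P.1 (g i₀ • f (e i₀)) := by
      rw [hval i₀ hi₀]
      refine P.1.map_sum_lt WithZero.exp_ne_zero fun j hj => ?_
      rw [hval j (Finset.mem_of_mem_erase hj), WithZero.exp_lt_exp]
      have h3 := hmin j (Finset.mem_of_mem_erase hj)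
      have h4 : ((e j : J) : ℕ) ≠ ((e i₀ : J) : ℕ) := fun h5 =>
        (Finset.ne_of_mem_erase hj) (e.injective (Subtype.ext h5))
      omega
    rw [eq_neg_of_add_eq_zero_left hg', Valuation.map_neg] at hlt
    exact lt_irrefl _ hlt
  · rw [Equiv.sum_comp e (fun n : J => (n : ℕ)), Finset.sum_coe_sort J (fun n => n)]
    exact h2

end Groth.Agent.H23LinSer
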