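import Groth.Agent.H23LinSer.Chain

/-! A backbone of rational components with cusps. -/

set_option autoImplicit false
set_option linter.unusedSectionVars false

namespace Groth.Agent.H23LinSer

open Groth.Agent.H23FunFld

variable {k : Type*} [Field k] [IsAlgClosed k] [CharZero k]
  {N : ℕ} {Z : Fin (N + 1) → Type*} [∀ i, Field (Z i)] [∀ i, Algebra k (Z i)]

/-- A backbone carrying a limit linear series with cusps at the places `Q i`, `i ∈ T`. -/
structure IsBackbone (d r : ℕ) (D : ∀ i, FunFld.Divisor k (Z i)) (V : ∀ i, Submodule k (Z i))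
    (A B : ∀ i, FunFld.Place k (Z i)) (T : Finset (Fin (N + 1)))
    (Q : ∀ i, FunFld.Place k (Z i)) : Prop where
  hZ : ∀ i, FunFld.IsFunctionField k (Z i)
  hrat : ∀ i, FunFld.genus k (Z i) = 0
  hD : ∀ i, (D i).deg = d
  hV : ∀ i, V i ≤ FunFld.L (D i)
  hVr : ∀ i, Module.finrank k ↥(V i) = r + 1
  hAB : ∀ i : Fin (N + 1), 0 < (i : ℕ) → (i : ℕ) < N → A i ≠ B i
  hcomp : ∀ (l : Fin N) (m : ℕ), m ≤ d + 1 →
    vd (V l.castSucc) (D l.castSucc) (B l.castSucc) (m : ℤ) +
      vd (V l.succ) (D l.succ) (A l.succ) ((d : ℤ) + 1 - m) = r + 1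
  hQA : ∀ i ∈ T, 0 < (i : ℕ) → Q i ≠ A i
  hQB : ∀ i ∈ T, (i : ℕ) < N → Q i ≠ B i
  hcusp : ∀ i ∈ T, r ≤ vd (V i) (D i) (Q i) 2

variable {d r : ℕ} {D : ∀ i, FunFld.Divisor k (Z i)} {V : ∀ i, Submodule k (Z i)}
  {A B : ∀ i, FunFld.Place k (Z i)} {T : Finset (Fin (N + 1))}
  {Q : ∀ i, FunFld.Place k (Z i)} (H : IsBackbone d r D V A B T Q)
include H

/-- The bound on one component. -/
theorem IsBackbone.component (i : Fin (N + 1)) (x : Prop) [Decidable x]
    (X : FunFld.Place k (Z i)) (hXA : x → 0 < (i : ℕ) → X ≠ A i)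
    (hXB : x → (i : ℕ) < N → X ≠ B i) (hXQ : x → i ∈ T → X ≠ Q i) :
    (if 0 < (i : ℕ) then exc (V i) (D i) (A i) d r else 0) +
        (if (i : ℕ) < N then exc (V i) (D i) (B i) d r else 0) +
      (if i ∈ T then exc (V i) (D i) (Q i) d r else 0) +
      (if x then exc (V i) (D i) X d r else 0) ≤ rho2 d r :=
  exc_four_le (H.hZ i) (H.hrat i) (H.hV i) (H.hD i) (H.hVr i) (H.hAB i)
    (fun ha ht => (H.hQA i ht ha).symm) (fun hb ht => (H.hQB i ht hb).symm)
    (fun ha hx => (hXA hx ha).symm) (fun hb hx => (hXB hx hb).symm)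
    (fun ht hx => (hXQ hx ht).symm)

theorem IsBackbone.component' (i : Fin (N + 1)) :
    (if 0 < (i : ℕ) then exc (V i) (D i) (A i) d r else 0) +
        (if (i : ℕ) < N then exc (V i) (D i) (B i) d r else 0) +
      (if i ∈ T then exc (V i) (D i) (Q i) d r else 0) ≤ rho2 d r := by
  simpa using H.component i False (Q i) (fun h => h.elim) (fun h => h.elim) (fun h => h.elim)

theorem IsBackbone.two_r_le (i : Fin (N + 1)) (hi : i ∈ T) :
    2 * (r : ℤ) ≤ exc (V i) (D i) (Q i) d r :=
  exc_cusp (H.hZ i) (H.hV i) (H.hD i) (H.hVr i) (Q i) (H.hcusp i hi)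

theorem IsBackbone.below (i : Fin (N + 1)) :
    2 * (r : ℤ) * (T.filter (fun j => j < i)).card ≤
      if 0 < (i : ℕ) then exc (V i) (D i) (A i) d r else 0 := by
  classical
  induction i using Fin.induction with
  | zero => simp
  | succ l ih =>
    rw [if_pos (by simp)]
    have h1 := H.component' l.castSucc
    have h2 := exc_compat (H.hcomp l)
    have h3 : T.filter (fun j => j < l.succ) =
        T.filter (fun j => j < l.castSucc) ∪ T.filter (fun j => j = l.castSucc) := by
      rw [← Finset.filter_or]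
      refine Finset.filter_congr fun j _ => ?_
      rw [← le_iff_lt_or_eq, Fin.le_castSucc_iff]
    have h4 : ((T.filter (fun j => j < l.succ)).card : ℤ) =
        (T.filter (fun j => j < l.castSucc)).card + if l.castSucc ∈ T then 1 else 0 := by
      rw [h3, Finset.card_union_of_disjoint, Finset.filter_eq']
      · split <;> simp
      · exact Finset.disjoint_filter.2 fun j _ h e => h.ne e
    have h5 : (if (l.castSucc : ℕ) < N then exc (V l.castSucc) (D l.castSucc) (B l.castSucc) d r
        else 0) = exc (V l.castSucc) (D l.castSucc) (B l.castSucc) d r := if_pos (by simp)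
    rw [h4]
    rw [h5] at h1
    split
    · rename_i hT
      rw [if_pos hT] at h1
      have := H.two_r_le _ hT
      linarith
    · rename_i hT
      rw [if_neg hT] at h1
      linarith

theorem IsBackbone.above (i : Fin (N + 1)) :
    2 * (r : ℤ) * (T.filter (fun j => i < j)).card ≤
      if (i : ℕ) < N then exc (V i) (D i) (B i) d r else 0 := by
  classical
  induction i using Fin.reverseInduction with
  | last => simp [not_lt.2 (Fin.le_last _)]
  | cast l ih =>
    rw [if_pos (by simp)]
    have h1 := H.component' l.succ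
    have h2 := exc_compat (H.hcomp l)
    have h4 : ((T.filter (fun j => l.castSucc < j)).card : ℤ) =
        (T.filter (fun j => l.succ < j)).card + if l.succ ∈ T then 1 else 0 := by
      rw [Finset.filter_congr (q := fun j => l.succ < j ∨ j = l.succ) fun j _ => by
        rw [Fin.castSucc_lt_iff_succ_le, le_iff_lt_or_eq, eq_comm (a := j)],
        Finset.filter_or, Finset.card_union_of_disjoint, Finset.filter_eq']
      · split <;> simp
      · exact Finset.disjoint_filter.2 fun j _ h e => h.ne e.symm
    rw [if_pos (show 0 < (l.succ : ℕ) by simp)] at h1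
    rw [h4]
    split
    · rename_i hT
      rw [if_pos hT] at h1
      have := H.two_r_le _ hT
      linarith
    · rename_i hT
      rw [if_neg hT] at h1
      linarith

theorem IsBackbone.erase_le (i : Fin (N + 1)) :
    2 * (r : ℤ) * (T.erase i).card ≤ (if 0 < (i : ℕ) then exc (V i) (D i) (A i) d r else 0) +
      (if (i : ℕ) < N then exc (V i) (D i) (B i) d r else 0) := by
  classical
  have h : T.erase i = T.filter (fun j => j < i) ∪ T.filter (fun j => i < j) := by
    ext j
    simp only [Finset.mem_erase, Finset.mem_union, Finset.mem_filter, ne_iff_lt_or_gt]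
    tauto
  rw [h, Finset.card_union_of_disjoint (Finset.disjoint_filter.2 fun j _ h h' => h.asymm h'),
    Nat.cast_add, mul_add]
  linarith [H.below i, H.above i]

end Groth.Agent.H23LinSer
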