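import Groth.Agent.H23LinSer.Genus0

/-! Excess weights along chains of components. -/

set_option autoImplicit false
set_option linter.unusedSectionVars false

namespace Groth.Agent.H23LinSer

open Groth.Agent.H23FunFld

variable {k K : Type*} [Field k] [Field K] [Algebra k K]

/-- Twice the excess weight. -/
noncomputable def exc (V : Submodule k K) (D : FunFld.Divisor k K) (P : FunFld.Place k K)
    (d r : ℕ) : ℤ :=
  2 * (wt V D P d : ℤ) - r * (r + 1)

/-- Twice `(r+1)(d-r)`. -/
def rho2 (d r : ℕ) : ℤ := 2 * ((r + 1) * d) - 2 * (r * (r + 1))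

theorem exc_compat {L : Type*} [Field L] [Algebra k L] {V : Submodule k K}
    {D : FunFld.Divisor k K} {V' : Submodule k L} {D' : FunFld.Divisor k L} {d r : ℕ}
    {P : FunFld.Place k K} {Q : FunFld.Place k L}
    (hcomp : ∀ m : ℕ, m ≤ d + 1 → vd V D P (m : ℤ) + vd V' D' Q ((d : ℤ) + 1 - m) = r + 1) :
    exc V D P d r + exc V' D' Q d r = rho2 d r := by
  have := congrArg (Nat.cast : ℕ → ℤ) (wt_add_wt_eq hcomp)
  push_cast at this
  unfold exc rho2
  linarith

variable [IsAlgClosed k] (hK : FunFld.IsFunctionField k K)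
include hK

theorem exc_nonneg {V : Submodule k K} {D : FunFld.Divisor k K} (h : V ≤ FunFld.L D) {d r : ℕ}
    (hD : D.deg = d) (hr : Module.finrank k V = r + 1) (P : FunFld.Place k K) :
    0 ≤ exc V D P d r := by
  have := wt_lower hK h hD hr P
  unfold exc
  zify at this
  linarith

theorem exc_add_le {V : Submodule k K} {D : FunFld.Divisor k K} (h : V ≤ FunFld.L D) {d r : ℕ}
    (hD : D.deg = d) (hr : Module.finrank k V = r + 1) {P Q : FunFld.Place k K} (hPQ : P ≠ Q) :
    exc V D P d r + exc V D Q d r ≤ rho2 d r := by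
  have := wt_add_wt_le hK h hD hr hPQ
  unfold exc rho2
  zify at this
  linarith

theorem exc_cusp {V : Submodule k K} {D : FunFld.Divisor k K} (h : V ≤ FunFld.L D) {d r : ℕ}
    (hD : D.deg = d) (hr : Module.finrank k V = r + 1) (P : FunFld.Place k K)
    (hc : r ≤ vd V D P 2) : 2 * (r : ℤ) ≤ exc V D P d r := by
  have := wt_cusp hK h hD hr P hc
  unfold exc
  zify at this
  linarith

theorem exc_sum_le [CharZero k] (hg : FunFld.genus k K = 0) {V : Submodule k K}
    {D : FunFld.Divisor k K} (h : V ≤ FunFld.L D) {d r : ℕ} (hD : D.deg = d)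
    (hr : Module.finrank k V = r + 1) (S : Finset (FunFld.Place k K)) :
    ∑ P ∈ S, exc V D P d r ≤ rho2 d r := by
  classical
  have hrd : r ≤ d := r_le_deg hK h hD hr
  rcases S.eq_empty_or_nonempty with rfl | ⟨B, hB⟩
  · have h2 : (r : ℤ) ≤ d := by exact_mod_cast hrd
    have h3 : (0 : ℤ) ≤ (r : ℤ) + 1 := by positivity
    rw [Finset.sum_empty, rho2]
    nlinarith
  have := plucker hK hg h hD hr B (S.erase B) (Finset.notMem_erase B S)
  zify at this
  rw [← Finset.add_sum_erase _ _ hB]
  simp only [exc, rho2, Finset.sum_sub_distrib, Finset.sum_const, nsmul_eq_mul, ← Finset.mul_sum]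
  linarith

/-- A place that is present only if `p` holds. -/
noncomputable def opt (p : Prop) [Decidable p] (P : FunFld.Place k K) :
    Finset (FunFld.Place k K) :=
  if p then {P} else ∅

omit [IsAlgClosed k] hK in
theorem sum_opt (p : Prop) [Decidable p] (P : FunFld.Place k K) (f : FunFld.Place k K → ℤ) :
    ∑ R ∈ opt p P, f R = if p then f P else 0 := by
  unfold opt
  split <;> simp

omit [IsAlgClosed k] hK in
theorem disjoint_opt {p q : Prop} [Decidable p] [Decidable q] {P Q : FunFld.Place k K}
    (h : p → q → P ≠ Q) : Disjoint (opt p P) (opt q Q) := by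
  unfold opt
  by_cases hp : p <;> by_cases hq : q <;> simp [hp, hq]
  exact h hp hq

/-- The bound for up to four optional, distinct places. -/
theorem exc_four_le [CharZero k] (hg : FunFld.genus k K = 0) {V : Submodule k K}
    {D : FunFld.Divisor k K} (h : V ≤ FunFld.L D) {d r : ℕ} (hD : D.deg = d)
    (hr : Module.finrank k V = r + 1) {a b t x : Prop} [Decidable a] [Decidable b] [Decidable t]
    [Decidable x] {A B Q X : FunFld.Place k K} (hAB : a → b → A ≠ B) (hAQ : a → t → A ≠ Q)
    (hBQ : b → t → B ≠ Q) (hAX : a → x → A ≠ X) (hBX : b → x → B ≠ X) (hQX : t → x → Q ≠ X) :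
    (if a then exc V D A d r else 0) + (if b then exc V D B d r else 0) +
      (if t then exc V D Q d r else 0) + (if x then exc V D X d r else 0) ≤ rho2 d r := by
  classical
  have := exc_sum_le hK hg h hD hr (opt a A ∪ opt b B ∪ opt t Q ∪ opt x X)
  rw [Finset.sum_union, Finset.sum_union, Finset.sum_union, sum_opt, sum_opt, sum_opt,
    sum_opt] at this
  · exact this
  · exact disjoint_opt hAB
  · exact Finset.disjoint_union_left.2 ⟨disjoint_opt hAQ, disjoint_opt hBQ⟩
  · exact Finset.disjoint_union_left.2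
      ⟨Finset.disjoint_union_left.2 ⟨disjoint_opt hAX, disjoint_opt hBX⟩, disjoint_opt hQX⟩

end Groth.Agent.H23LinSer
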