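import Mathlib.LinearAlgebra.Vandermonde
import Mathlib.RingTheory.Polynomial.Pochhammer
import Mathlib.Algebra.Polynomial.Derivative
import Mathlib.Algebra.Polynomial.RingDivision
import Mathlib.Algebra.CharZero.Infinite
import Mathlib.RingTheory.Coprime.Lemmas

/-! The Wronskian of a family of polynomials in characteristic zero. -/

set_option autoImplicit false

namespace Groth.Agent.H23LinSer

open Polynomial

variable {k : Type*} [Field k] {m : ℕ}

/-- The Wronskian matrix. -/
noncomputable def wronskMat (f : Fin m → k[X]) : Matrix (Fin m) (Fin m) k[X] :=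
  Matrix.of fun i j => derivative^[(j : ℕ)] (f i)

theorem wronskMat_linear_change (A : Matrix (Fin m) (Fin m) k) (f g : Fin m → k[X])
    (hg : ∀ i, g i = ∑ l, C (A i l) * f l) :
    (wronskMat g).det = C A.det * (wronskMat f).det := by
  have h : wronskMat g = A.map C * wronskMat f := by
    ext1 i j
    simp only [wronskMat, Matrix.mul_apply, Matrix.map_apply, Matrix.of_apply, hg,
      iterate_derivative_sum, iterate_derivative_C_mul]
  rw [h, Matrix.det_mul, RingHom.map_det, RingHom.mapMatrix_apply]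

theorem pow_dvd_det_wronskMat (f : Fin m → k[X]) (c : k) (a : Fin m → ℕ)
    (ha : ∀ i, (X - C c) ^ a i ∣ f i) :
    (X - C c) ^ (∑ i, a i - ∑ j : Fin m, (j : ℕ)) ∣ (wronskMat f).det := by
  rw [Matrix.det_apply]
  refine Finset.dvd_sum fun σ _ => ?_
  rw [Units.smul_def, zsmul_eq_mul]
  refine dvd_mul_of_dvd_right ?_ _
  have h1 : (X - C c) ^ (∑ i, (a (σ i) - (i : ℕ))) ∣ ∏ i, wronskMat f (σ i) i := by
    rw [← Finset.prod_pow_eq_pow_sum]
    exact Finset.prod_dvd_prod_of_dvd _ _ fun i _ =>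
      pow_sub_dvd_iterate_derivative_of_pow_dvd _ (ha (σ i))
  refine (pow_dvd_pow _ ?_).trans h1
  rw [← Equiv.sum_comp σ a, tsub_le_iff_right, ← Finset.sum_add_distrib]
  exact Finset.sum_le_sum fun i _ => le_tsub_add

theorem coeff_prod_of_natDegree_le' {ι : Type*} (s : Finset ι) (f : ι → k[X]) (b : ι → ℕ)
    (h : ∀ i ∈ s, (f i).natDegree ≤ b i) :
    (∏ i ∈ s, f i).natDegree ≤ ∑ i ∈ s, b i ∧
      (∏ i ∈ s, f i).coeff (∑ i ∈ s, b i) = ∏ i ∈ s, (f i).coeff (b i) := by
  classical
  induction s using Finset.induction_on with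
  | empty => simp
  | insert x s hx ih =>
    obtain ⟨h1, h2⟩ := ih fun i hi => h i (Finset.mem_insert_of_mem hi)
    have hxb := h x (Finset.mem_insert_self _ _)
    rw [Finset.prod_insert hx, Finset.sum_insert hx, Finset.prod_insert hx]
    exact ⟨natDegree_mul_le.trans (add_le_add hxb h1),
      by rw [coeff_mul_add_eq_of_natDegree_le hxb h1, h2]⟩

theorem wronskMat_det_ne_zero [CharZero k] (f : Fin m → k[X]) (b : Fin m → ℕ)
    (hb : Function.Injective b) (hf : ∀ i, f i ≠ 0) (hdeg : ∀ i, (f i).natDegree = b i) :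
    (wronskMat f).det ≠ 0 ∧ (wronskMat f).det.natDegree + ∑ j : Fin m, (j : ℕ) ≤ ∑ i, b i := by
  set M : Matrix (Fin m) (Fin m) k[X] := Matrix.of fun i j => X ^ (j : ℕ) * wronskMat f i j with hM
  have hdet : M.det = (∏ j : Fin m, X ^ (j : ℕ)) * (wronskMat f).det :=
    Matrix.det_mul_row _ _
  have hMdeg : ∀ i j, (M i j).natDegree ≤ b i := by
    intro i j
    rw [hM, Matrix.of_apply]
    rcases eq_or_ne (wronskMat f i j) 0 with h0 | h0
    · simp [h0]
    rw [natDegree_mul (pow_ne_zero _ X_ne_zero) h0, natDegree_X_pow]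
    have h1 := natDegree_iterate_derivative (f i) (j : ℕ)
    have h2 : (j : ℕ) ≤ b i := by
      by_contra hlt
      exact h0 (iterate_derivative_eq_zero (by rw [hdeg]; omega))
    change (j : ℕ) + (derivative^[(j : ℕ)] (f i)).natDegree ≤ b i
    rw [hdeg] at h1
    omega
  have hMcoeff : ∀ i j, (M i j).coeff (b i) =
      (f i).coeff (b i) * ((descPochhammer k (j : ℕ)).eval ((b i : ℕ) : k)) := by
    intro i j
    rw [hM, Matrix.of_apply, coeff_X_pow_mul']
    change (if (j : ℕ) ≤ b i then (derivative^[(j : ℕ)] (f i)).coeff (b i - (j : ℕ)) else 0) = _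
    rw [descPochhammer_eval_eq_descFactorial]
    split
    · rename_i hj
      rw [coeff_iterate_derivative, Nat.sub_add_cancel hj, nsmul_eq_mul, mul_comm]
    · rename_i hj
      rw [Nat.descFactorial_eq_zero_iff_lt.2 (by omega)]
      simp
  have hbound : ∀ σ : Equiv.Perm (Fin m), (∏ i, M (σ i) i).natDegree ≤ ∑ i, b i ∧
      (∏ i, M (σ i) i).coeff (∑ i, b i) = ∏ i, (M (σ i) i).coeff (b (σ i)) := by
    intro σ
    have := coeff_prod_of_natDegree_le' Finset.univ (fun i => M (σ i) i) (fun i => b (σ i))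
      fun i _ => hMdeg _ _
    rwa [Equiv.sum_comp σ b] at this
  have hdeg1 : M.det.natDegree ≤ ∑ i, b i := by
    rw [Matrix.det_apply]
    refine natDegree_sum_le_of_forall_le _ _ fun σ _ => ?_
    refine (natDegree_smul_le _ _).trans (hbound σ).1
  have hcoef : M.det.coeff (∑ i, b i) =
      (Matrix.of fun i j => (M i j).coeff (b i) : Matrix (Fin m) (Fin m) k).det := by
    rw [Matrix.det_apply, Matrix.det_apply, finsetSum_coeff]
    refine Finset.sum_congr rfl fun σ _ => ?_
    rw [Units.smul_def, Units.smul_def, coeff_smul, (hbound σ).2]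
    rfl
  have hcoef0 : M.det.coeff (∑ i, b i) ≠ 0 := by
    have e : (Matrix.of fun i j => (M i j).coeff (b i) : Matrix (Fin m) (Fin m) k) =
        Matrix.of fun (i j : Fin m) => (f i).coeff (b i) *
          ((descPochhammer k (j : ℕ)).eval ((b i : ℕ) : k)) := by
      ext i j; exact hMcoeff i j
    rw [hcoef, e]
    have e2 := Matrix.det_mul_column (fun i => (f i).coeff (b i))
      (Matrix.of fun i j : Fin m => (descPochhammer k (j : ℕ)).eval ((b i : ℕ) : k))
    simp only [Matrix.of_apply] at e2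
    rw [e2, ← Matrix.det_eval_matrixOfPolynomials_eq_det_vandermonde (fun i => ((b i : ℕ) : k))
      (fun j => descPochhammer k (j : ℕ)) (fun j => descPochhammer_natDegree k _)
      (fun j => monic_descPochhammer k _)]
    refine mul_ne_zero (Finset.prod_ne_zero_iff.2 fun i _ => ?_) ?_
    · rw [← hdeg]; exact leadingCoeff_ne_zero.2 (hf i)
    · exact Matrix.det_vandermonde_ne_zero_iff.2 (Nat.cast_injective.comp hb)
  have hM0 : M.det ≠ 0 := fun h0 => hcoef0 (by rw [h0, coeff_zero])
  rw [hdet, Finset.prod_pow_eq_pow_sum] at hM0 hdeg1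
  have hW := right_ne_zero_of_mul hM0
  refine ⟨hW, ?_⟩
  rw [natDegree_mul (pow_ne_zero _ X_ne_zero) hW, natDegree_X_pow] at hdeg1
  omega

/-- The Plücker inequality for polynomials. -/
theorem plucker_poly [CharZero k] (S : Finset k) (g : Fin m → k[X]) (b : Fin m → ℕ)
    (hb : Function.Injective b) (hg : ∀ i, g i ≠ 0) (hdeg : ∀ i, (g i).natDegree = b i)
    (f : k → Fin m → k[X]) (A : k → Matrix (Fin m) (Fin m) k)
    (hA : ∀ c ∈ S, ∀ i, g i = ∑ l, C (A c i l) * f c l) (a : k → Fin m → ℕ)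
    (ha : ∀ c ∈ S, ∀ i, (X - C c) ^ a c i ∣ f c i) :
    ∑ c ∈ S, ∑ i, a c i + ∑ j : Fin m, (j : ℕ) ≤ ∑ i, b i + S.card * ∑ j : Fin m, (j : ℕ) := by
  obtain ⟨hW, hle⟩ := wronskMat_det_ne_zero g b hb hg hdeg
  set T := ∑ j : Fin m, (j : ℕ) with hT
  have hdvd : ∏ c ∈ S, (X - C c) ^ (∑ i, a c i - T) ∣ (wronskMat g).det := by
    refine Finset.prod_dvd_of_coprime ?_ fun c hc => ?_
    · exact fun c _ d _ hcd => (pairwise_coprime_X_sub_C Function.injective_id hcd).pow
    · rw [wronskMat_linear_change (A c) (f c) g (hA c hc)]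
      exact dvd_mul_of_dvd_right (pow_dvd_det_wronskMat _ c _ (ha c hc)) _
  have h1 := natDegree_le_of_dvd hdvd hW
  rw [natDegree_prod _ _ fun c _ => pow_ne_zero _ (X_sub_C_ne_zero c)] at h1
  simp only [natDegree_pow, natDegree_X_sub_C, mul_one] at h1
  have h2 : ∑ c ∈ S, ∑ i, a c i ≤ ∑ c ∈ S, (∑ i, a c i - T) + S.card * T := by
    rw [← smul_eq_mul S.card T, ← Finset.sum_const, ← Finset.sum_add_distrib]
    exact Finset.sum_le_sum fun c _ => le_tsub_add
  omega

end Groth.Agent.H23LinSer
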