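import Groth.Agent.H23LinSer.Adapted
import Groth.Agent.H23LinSer.Wronskian

/-! Linear series on a rational function field: a coordinate, and the Plücker inequality. -/

set_option autoImplicit false
set_option linter.unusedSectionVars false

namespace Groth.Agent.H23LinSer

open Groth.Agent.H23FunFld

variable {k K : Type*} [Field k] [Field K] [Algebra k K] [IsAlgClosed k]
  (hK : FunFld.IsFunctionField k K)
include hK

theorem exists_div_eq (hg : FunFld.genus k K = 0) {E : FunFld.Divisor k K} (hE : E.deg = 0) :
    ∃ h : K, h ≠ 0 ∧ FunFld.div k h = E := by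
  have h1 := ell_ge hK (-E)
  rw [deg_neg, hE, hg] at h1
  obtain ⟨x, hx, hx'⟩ := exists_effective hK (D := -E) (by omega)
  have := deg_nonneg_lt hK hx' (by rw [deg_add, deg_neg, deg_div hK, hE]; omega)
  exact ⟨x, hx, by rwa [neg_add_eq_zero, eq_comm] at this⟩

theorem exists_ne_place (B : FunFld.Place k K) : ∃ A : FunFld.Place k K, A ≠ B := by
  obtain ⟨x, hx, -⟩ := hK.1
  have hc : x ∉ Set.range (algebraMap k K) := fun ⟨c, hc⟩ => hx (hc ▸ isAlgebraic_algebraMap c)
  obtain ⟨P, hP⟩ := exists_zero hK hc
  obtain ⟨Q, hQ⟩ := exists_pole hK hc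
  rcases eq_or_ne P B with rfl | h
  · exact ⟨Q, fun h => by rw [h] at hQ; omega⟩
  · exact ⟨P, h⟩

/-- An element with divisor `A - B` is a coordinate with pole only at `B`. -/
theorem exists_coord (hg : FunFld.genus k K = 0) {A B : FunFld.Place k K} (hAB : A ≠ B) :
    ∃ t : K, t ≠ 0 ∧ B.1 t = WithZero.exp 1 ∧ A.ord t = 1 ∧ (∀ P, P ≠ A → P ≠ B → P.ord t = 0) ∧
      Transcendental k t ∧ (∀ P, P ≠ B → P.1 t ≤ 1) ∧
      ∀ (c : k) (P Q : FunFld.Place k K), P.1 (t - algebraMap k K c) < 1 →
        Q.1 (t - algebraMap k K c) < 1 → P = Q := by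
  obtain ⟨t, ht, hdiv⟩ := exists_div_eq hK hg (E := Finsupp.single A 1 - Finsupp.single B 1)
    (by rw [deg_sub, deg_single, deg_single, deg_eq_one hK A, deg_eq_one hK B]; simp)
  have hord : ∀ P, P.ord t =
      (Finsupp.single A (1 : ℤ) - Finsupp.single B 1 : FunFld.Divisor k K) P := fun P => by
    rw [← div_apply hK, hdiv]
  have hB : B.ord t = -1 := by
    rw [hord, Finsupp.sub_apply, Finsupp.single_eq_same, Finsupp.single_eq_of_ne hAB.symm]; norm_num
  have hA : A.ord t = 1 := by
    rw [hord, Finsupp.sub_apply, Finsupp.single_eq_same, Finsupp.single_eq_of_ne hAB]; norm_num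
  have hPB : ∀ P, P ≠ B → 0 ≤ P.ord t := fun P hP => by
    rw [hord, Finsupp.sub_apply, Finsupp.single_eq_of_ne hP, sub_zero]
    exact Finsupp.single_nonneg.2 zero_le_one P
  refine ⟨t, ht, by rw [val_eq_exp B ht, hB, neg_neg], hA, fun P h1 h2 => by
    rw [hord, Finsupp.sub_apply, Finsupp.single_eq_of_ne h1, Finsupp.single_eq_of_ne h2, sub_zero],
    ?_, fun P hP => (val_le_one_iff P ht).2 (hPB P hP), ?_⟩
  · refine transcendental_of_notMem hK fun ⟨c, hc⟩ => ?_
    rw [← hc, ord_const] at hB
    omega
  intro c P Q hP hQ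
  by_contra hne
  classical
  set u := t - algebraMap k K c with hu
  have hu0 : u ≠ 0 := by
    intro h
    rw [sub_eq_zero] at h
    rw [h, ord_const] at hB
    omega
  have hle : ∀ R, R ≠ B → 0 ≤ R.ord u := fun R hR => by
    refine (val_le_one_iff R hu0).1 ((R.1.map_sub _ _).trans (max_le ?_ (R.2.1 c)))
    exact (val_le_one_iff R ht).2 (hPB R hR)
  have hBu : -1 ≤ B.ord u := by
    have h1 : B.1 u ≤ WithZero.exp 1 := by
      refine (B.1.map_sub _ _).trans (max_le (le_of_eq (by rw [val_eq_exp B ht, hB, neg_neg])) ?_)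
      refine (B.2.1 c).trans ?_
      rw [← WithZero.exp_zero, WithZero.exp_le_exp]
      omega
    have := (val_le_exp_iff B hu0).1 h1
    omega
  have hPo := (val_lt_one_iff P hu0).1 hP
  have hQo := (val_lt_one_iff Q hu0).1 hQ
  have h1 : Finsupp.single P (1 : ℤ) + Finsupp.single Q 1 ≤ FunFld.div k u + Finsupp.single B 1 := by
    intro R
    simp only [Finsupp.add_apply, div_apply hK, Finsupp.single_apply]
    have h0 := hle R
    by_cases hRB : B = R
    · subst hRB
      by_cases hPR : P = B
      · subst hPR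
        simp [Ne.symm hne]
        omega
      · by_cases hQR : Q = B
        · subst hQR
          simp [hne]
          omega
        · simp [hPR, hQR]
          omega
    · have h0' := h0 (Ne.symm hRB)
      by_cases hPR : P = R
      · subst hPR
        simp [Ne.symm hne, hRB]
        omega
      · by_cases hQR : Q = R
        · subst hQR
          simp [hne, hRB]
          omega
        · simp [hPR, hQR, hRB]
          omega
  have h2 := deg_mono h1
  rw [deg_add, deg_add, deg_div hK, deg_single, deg_single, deg_single, deg_eq_one hK,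
    deg_eq_one hK, deg_eq_one hK] at h2
  simp at h2

theorem ord_aeval_of_ne {t : K} {P : FunFld.Place k K} (hP : P.1 t ≤ 1) {c : k}
    (hc : P.1 (t - algebraMap k K c) < 1) {p : Polynomial k} (hp : Polynomial.aeval t p ≠ 0)
    (hone : P.ord (t - algebraMap k K c) = 1) :
    P.ord (Polynomial.aeval t p) = (p.rootMultiplicity c : ℤ) := by
  have hp0 : p ≠ 0 := by rintro rfl; simp at hp
  obtain ⟨q, hq, hnd⟩ := p.exists_eq_pow_rootMultiplicity_mul_and_not_dvd hp0 c
  have hqc : q.eval c ≠ 0 := fun h => hnd (Polynomial.dvd_iff_isRoot.2 h)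
  obtain ⟨w, hw⟩ := Polynomial.X_sub_C_dvd_sub_C_eval (a := c) (p := q)
  set R : Subalgebra k K := { P.O.toSubring with algebraMap_mem' := fun a => P.2.1 a }
  have hwv : P.1 (Polynomial.aeval t w) ≤ 1 :=
    Algebra.adjoin_le (S := R) (Set.singleton_subset_iff.2 hP)
      (Polynomial.aeval_mem_adjoin_singleton k t)
  have hqv : P.1 (Polynomial.aeval t q) = 1 := by
    have e : Polynomial.aeval t q =
        algebraMap k K (q.eval c) + (t - algebraMap k K c) * Polynomial.aeval t w := by
      have := congrArg (Polynomial.aeval t) hw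
      rw [map_sub, Polynomial.aeval_C, map_mul, map_sub, Polynomial.aeval_X, Polynomial.aeval_C] at this
      rw [← this]; ring
    rw [e, P.1.map_add_eq_of_lt_left, val_const P hqc]
    rw [val_const P hqc, map_mul]
    exact mul_lt_one_of_lt_of_le hc hwv
  have hu0 : t - algebraMap k K c ≠ 0 := fun h => by rw [h, ord_zero] at hone; omega
  have h1 : P.1 (Polynomial.aeval t p) = WithZero.exp (-(p.rootMultiplicity c : ℤ)) := by
    conv_lhs => rw [hq]
    rw [map_mul, map_pow, map_mul, map_pow, map_sub, Polynomial.aeval_X, Polynomial.aeval_C, hqv,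
      mul_one, val_eq_exp P hu0, hone, ← WithZero.exp_nsmul]
    simp
  rw [val_eq_exp P hp, WithZero.exp_inj] at h1
  omega

theorem ord_aeval_at_pole {t : K} {B : FunFld.Place k K} (hB : B.1 t = WithZero.exp 1)
    {p : Polynomial k} (hp : Polynomial.aeval t p ≠ 0) :
    B.ord (Polynomial.aeval t p) = -(p.natDegree : ℤ) := by
  have hp0 : p ≠ 0 := by rintro rfl; simp at hp
  have hterm : ∀ i, B.1 (algebraMap k K (p.coeff i) * t ^ i) ≤ WithZero.exp (i : ℤ) := fun i => by
    rw [map_mul, map_pow, hB, ← WithZero.exp_nsmul]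
    refine (mul_le_of_le_one_left zero_le (B.2.1 _)).trans (le_of_eq ?_)
    simp
  have hlead : B.1 (algebraMap k K (p.coeff p.natDegree) * t ^ p.natDegree) =
      WithZero.exp (p.natDegree : ℤ) := by
    rw [map_mul, map_pow, hB, ← WithZero.exp_nsmul,
      val_const B (c := p.coeff p.natDegree) (Polynomial.leadingCoeff_ne_zero.2 hp0), one_mul]
    simp
  have h1 : B.1 (Polynomial.aeval t p) = WithZero.exp (p.natDegree : ℤ) := by
    rw [Polynomial.aeval_eq_sum_range, Finset.sum_range_succ]
    simp only [Algebra.smul_def]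
    rw [B.1.map_add_eq_of_lt_right, hlead]
    rw [hlead]
    exact B.1.map_sum_lt WithZero.exp_ne_zero fun i hi => (hterm i).trans_lt
      (WithZero.exp_lt_exp.2 (by simpa using hi))
  rw [val_eq_exp B hp, WithZero.exp_inj] at h1
  omega

/-- The Plücker inequality on a rational function field. -/
theorem plucker [CharZero k] (hg : FunFld.genus k K = 0) {V : Submodule k K}
    {D : FunFld.Divisor k K} (h : V ≤ FunFld.L D) {d r : ℕ} (hD : D.deg = d)
    (hr : Module.finrank k V = r + 1) (B : FunFld.Place k K) (U : Finset (FunFld.Place k K))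
    (hBU : B ∉ U) :
    2 * (wt V D B d + ∑ P ∈ U, wt V D P d) + r * (r + 1) ≤
      2 * ((r + 1) * d) + U.card * (r * (r + 1)) := by
  classical
  obtain ⟨A, hAB⟩ := exists_ne_place hK B
  obtain ⟨t, ht0, hBt, hAt, hothers, htr, hint, huniq⟩ := exists_coord hK hg hAB
  have hsub := fun (P : FunFld.Place k K) (hP : P ≠ B) => exists_sub_const hK (hint P hP)
  let cP : FunFld.Place k K → k := fun P => if hP : P ≠ B then (hsub P hP).choose else 0
  have hc : ∀ P, P ≠ B → P.1 (t - algebraMap k K (cP P)) < 1 := fun P hP => by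
    simp only [cP, dif_pos hP]
    exact (hsub P hP).choose_spec
  have hcinj : ∀ P ∈ U, ∀ Q ∈ U, cP P = cP Q → P = Q := fun P hP Q hQ he =>
    huniq (cP P) P Q (hc P (fun h => hBU (h ▸ hP))) (by
      rw [he]; exact hc Q (fun h => hBU (h ▸ hQ)))
  have hBne : ∀ c : k, t - algebraMap k K c ≠ 0 := fun c h => htr (by
    rw [sub_eq_zero] at h; exact h ▸ isAlgebraic_algebraMap c)
  -- the order of `t - c` at its unique zero is one
  have hone : ∀ P, P ≠ B → P.ord (t - algebraMap k K (cP P)) = 1 := by
    intro P hP
    set u := t - algebraMap k K (cP P)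
    have hu0 : u ≠ 0 := hBne _
    have h1 : 0 < P.ord u := (val_lt_one_iff P hu0).1 (hc P hP)
    have h2 : Finsupp.single P (P.ord u) ≤ FunFld.div k u + Finsupp.single B 1 := by
      intro R
      simp only [Finsupp.add_apply, div_apply hK, Finsupp.single_apply]
      by_cases hRB : B = R
      · subst hRB
        rw [if_neg hP, if_pos rfl]
        have h3 : B.1 u ≤ WithZero.exp 1 := by
          refine (B.1.map_sub _ _).trans (max_le hBt.le ((B.2.1 _).trans ?_))
          rw [← WithZero.exp_zero, WithZero.exp_le_exp]; omega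
        have := (val_le_exp_iff B hu0).1 h3
        omega
      · rw [if_neg hRB]
        have h3 : 0 ≤ R.ord u := (val_le_one_iff R hu0).1
          ((R.1.map_sub _ _).trans (max_le (hint R (Ne.symm hRB)) (R.2.1 _)))
        split
        · subst_vars; omega
        · omega
    have h3 := deg_mono h2
    rw [deg_add, deg_div hK, deg_single, deg_single, deg_eq_one hK, deg_eq_one hK] at h3
    simp at h3
    omega
  -- normalise the divisor to `d B`
  obtain ⟨z, hz, hzdiv⟩ := exists_div_eq hK hg (E := D - Finsupp.single B (d : ℤ))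
    (by rw [deg_sub_single hK, hD]; simp)
  have hzord : ∀ P, P.ord z = D P - Finsupp.single B (d : ℤ) P := fun P => by
    rw [← div_apply hK, hzdiv, Finsupp.sub_apply]
  let ev : Polynomial k →ₐ[k] K := Polynomial.aeval t
  have hev : Function.Injective ev := transcendental_iff_injective.1 htr
  have hLd : ∀ y ∈ FunFld.L (Finsupp.single B (d : ℤ)),
      ∃ p : Polynomial k, p.natDegree ≤ d ∧ ev p = y := by
    intro y hy
    let W : Submodule k K := (Polynomial.degreeLT k (d + 1)).map ev.toLinearMap
    have hWle : W ≤ FunFld.L (Finsupp.single B (d : ℤ)) := by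
      rintro _ ⟨p, hp, rfl⟩
      rcases eq_or_ne (ev p) 0 with h0 | h0
      · change ev p ∈ _
        rw [h0]; exact Submodule.zero_mem _
      intro Q
      have hpd : p.natDegree ≤ d := by
        have hp0 : p ≠ 0 := by rintro rfl; simp at h0
        have := Polynomial.mem_degreeLT.1 hp
        rw [Polynomial.degree_eq_natDegree hp0] at this
        have : p.natDegree < d + 1 := by exact_mod_cast this
        omega
      change Q.1 (ev p) ≤ _
      rcases eq_or_ne Q B with rfl | hQ
      · rw [val_eq_exp Q h0, Finsupp.single_eq_same, WithZero.exp_le_exp]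
        have := ord_aeval_at_pole hK hBt h0
        change Q.ord (ev p) = _ at this
        omega
      · rw [Finsupp.single_eq_of_ne hQ, WithZero.exp_zero]
        exact Algebra.adjoin_le
          (S := ({ Q.O.toSubring with algebraMap_mem' := fun a => Q.2.1 a } : Subalgebra k K))
          (Set.singleton_subset_iff.2 (hint Q hQ)) (Polynomial.aeval_mem_adjoin_singleton k t)
    have hWdim : Module.finrank k W = d + 1 := by
      rw [((Polynomial.degreeLT k (d + 1)).equivMapOfInjective ev.toLinearMap hev).finrank_eq.symm,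
        (Polynomial.degreeLTEquiv k (d + 1)).finrank_eq, Module.finrank_fin_fun]
    have := finiteDimensional_L hK (Finsupp.single B (d : ℤ))
    have hle : FunFld.ell (Finsupp.single B (d : ℤ)) ≤ d + 1 := by
      have := ell_le_toNat hK (Finsupp.single B (d : ℤ))
      rw [deg_single, deg_eq_one hK] at this
      omega
    have hWeq := Submodule.eq_of_le_of_finrank_le hWle (hWdim.symm ▸ hle)
    rw [← hWeq] at hy
    obtain ⟨p, hp, rfl⟩ := hy
    refine ⟨p, ?_, rfl⟩
    rcases eq_or_ne p 0 with rfl | hp0
    · simp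
    have := Polynomial.mem_degreeLT.1 hp
    rw [Polynomial.degree_eq_natDegree hp0] at this
    have : p.natDegree < d + 1 := by exact_mod_cast this
    omega
  have hpoly : ∀ f ∈ V, ∃ p : Polynomial k, ev p = z * f := by
    intro f hf
    have hmem : z * f ∈ FunFld.L (Finsupp.single B (d : ℤ)) := fun Q => by
      rw [map_mul, val_eq_exp Q hz]
      refine (mul_le_mul' le_rfl (h hf Q)).trans (le_of_eq ?_)
      rw [← WithZero.exp_add, hzord]
      congr 1
      ring
    obtain ⟨p, -, hp⟩ := hLd _ hmem
    exact ⟨p, hp⟩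
  choose! pol hpol using hpoly
  have hbas := fun P : FunFld.Place k K => exists_adapted hK h hD hr P
  choose f a hfV hf0 hainj hford had hfli hasum using hbas
  let g : Fin (r + 1) → Polynomial k := fun i => pol (f B i)
  have hgord : ∀ P i, P.ord (ev (pol (f P i))) = (a P i : ℤ) - Finsupp.single B (d : ℤ) P := by
    intro P i
    rw [hpol _ (hfV P i), ord_mul P hz (hf0 P i), hzord]
    have := hford P i
    omega
  have hne : ∀ P i, ev (pol (f P i)) ≠ 0 := fun P i => by
    rw [hpol _ (hfV P i)]
    exact mul_ne_zero hz (hf0 P i)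
  have hchange : ∀ P, ∀ i, ∃ c : Fin (r + 1) → k, f B i = ∑ l, c l • f P l := by
    intro P i
    have := finiteDimensional_of_le_L hK h
    have hspan : Submodule.span k (Set.range (f P)) = V := Submodule.eq_of_le_of_finrank_le
      (Submodule.span_le.2 (by rintro _ ⟨l, rfl⟩; exact hfV P l))
      (by rw [finrank_span_eq_card (hfli P), Fintype.card_fin, hr])
    have hm : f B i ∈ Submodule.span k (Set.range (f P)) := hspan.symm ▸ hfV B i
    obtain ⟨c, hc⟩ := (Submodule.mem_span_range_iff_exists_fun k).1 hm
    exact ⟨c, hc.symm⟩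
  choose coef hcoef using hchange
  let S : Finset k := U.image cP
  let back : k → FunFld.Place k K :=
    fun c => if hh : ∃ P ∈ U, cP P = c then hh.choose else B
  have hback : ∀ P ∈ U, back (cP P) = P := fun P hP => by
    have hh : ∃ Q ∈ U, cP Q = cP P := ⟨P, hP, rfl⟩
    simp only [back, dif_pos hh]
    exact hcinj _ hh.choose_spec.1 P hP hh.choose_spec.2
  have hdegB : ∀ i, (g i).natDegree = d - a B i ∧ a B i ≤ d := fun i => by
    have h1 := hgord B i
    have h2 := ord_aeval_at_pole hK hBt (hne B i)
    change B.ord (ev (g i)) = _ at h1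
    change B.ord (ev (g i)) = -((g i).natDegree : ℤ) at h2
    rw [Finsupp.single_eq_same] at h1
    have := had B i
    omega
  have key := plucker_poly S g (fun i => d - a B i)
    (fun i j hij => hainj B (by have := (hdegB i).2; have := (hdegB j).2; simp only at hij; omega))
    (fun i h0 => hne B i (by change ev (g i) = 0; rw [h0, map_zero]))
    (fun i => (hdegB i).1) (fun c i => pol (f (back c) i))
    (fun c => Matrix.of fun i l => coef (back c) i l) (fun c _ i => by
      apply hev
      change ev (pol (f B i)) = _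
      rw [hpol _ (hfV B i), hcoef (back c) i, Finset.mul_sum, map_sum]
      refine Finset.sum_congr rfl fun l _ => ?_
      rw [map_mul, hpol _ (hfV _ l), ← Polynomial.algebraMap_eq, AlgHom.commutes, Matrix.of_apply,
        Algebra.smul_def]
      ring)
    (fun c => a (back c)) (fun c hc' i => by
      obtain ⟨P, hP, rfl⟩ := Finset.mem_image.1 hc'
      rw [hback P hP]
      have hPB : P ≠ B := fun h => hBU (h ▸ hP)
      have h1 := hgord P i
      have h2 := ord_aeval_of_ne hK (hint P hPB) (hc P hPB) (hne P i) (hone P hPB)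
      change P.ord (ev (pol (f P i))) = _ at h2
      rw [Finsupp.single_eq_of_ne hPB] at h1
      have h3 : a P i = (pol (f P i)).rootMultiplicity (cP P) := by omega
      rw [h3]
      exact Polynomial.pow_rootMultiplicity_dvd _ _)
  have hsum1 : ∑ c ∈ S, ∑ i, a (back c) i = ∑ P ∈ U, wt V D P d := by
    rw [Finset.sum_image hcinj]
    exact Finset.sum_congr rfl fun P hP => by rw [hback P hP, hasum]
  have hsum2 : ∑ i, (d - a B i) + wt V D B d = (r + 1) * d := by
    rw [← hasum B, ← Finset.sum_add_distrib, Finset.sum_congr rfl (g := fun _ => d) fun i _ =>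
      Nat.sub_add_cancel (had B i)]
    simp
  have hT : 2 * ∑ j : Fin (r + 1), (j : ℕ) = r * (r + 1) := by
    rw [Fin.sum_univ_eq_sum_range (fun j => j), mul_comm, Finset.sum_range_id_mul_two]
    simp [mul_comm]
  have hcard : S.card = U.card := Finset.card_image_of_injOn hcinj
  rw [hsum1, hcard] at key
  nlinarith

end Groth.Agent.H23LinSer
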