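import Groth.Agent.H23LinSer.Chain

/-! A chain hanging from a component with bounded weight. -/

set_option autoImplicit false
set_option linter.unusedSectionVars false

namespace Groth.Agent.H23LinSer

open Groth.Agent.H23FunFld

variable {k : Type*} [Field k] [IsAlgClosed k]
  {n : ℕ} {U : Fin (n + 1) → Type*} [∀ l, Field (U l)] [∀ l, Algebra k (U l)]

/-- The excess at the upper nodes does not decrease along the chain. -/
theorem ladder_le_exc (hU : ∀ l, FunFld.IsFunctionField k (U l)) {d r : ℕ}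
    {D : ∀ l, FunFld.Divisor k (U l)} (hD : ∀ l, (D l).deg = d)
    {V : ∀ l, Submodule k (U l)} (hV : ∀ l, V l ≤ FunFld.L (D l))
    (hVr : ∀ l, Module.finrank k ↥(V l) = r + 1) {A B : ∀ l, FunFld.Place k (U l)}
    (hAB : ∀ l : Fin (n + 1), 0 < (l : ℕ) → (l : ℕ) < n → A l ≠ B l)
    (hcomp : ∀ (l : Fin n) (m : ℕ), m ≤ d + 1 →
      vd (V l.castSucc) (D l.castSucc) (B l.castSucc) (m : ℤ) +
        vd (V l.succ) (D l.succ) (A l.succ) ((d : ℤ) + 1 - m) = r + 1)
    {e : ℤ} (he : exc (V 0) (D 0) (B 0) d r + e ≤ rho2 d r)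
    (l : Fin (n + 1)) (hl : 0 < (l : ℕ)) : e ≤ exc (V l) (D l) (A l) d r := by
  induction l using Fin.induction with
  | zero => simp at hl
  | succ l ih =>
    have h1 := exc_compat (hcomp l)
    rcases Nat.eq_zero_or_pos (l.castSucc : ℕ) with h0 | h0
    · have : l.castSucc = 0 := Fin.ext h0
      rw [this] at h1
      linarith
    · have h2 := exc_add_le (hU _) (hV _) (hD _) (hVr _) (hAB l.castSucc h0 (by simp))
      linarith [ih h0]

end Groth.Agent.H23LinSer
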