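import Groth.Agent.H23LinSer.Genus0

/-! Members of a linear series with prescribed divisor. -/

set_option autoImplicit false
set_option linter.unusedSectionVars false

namespace Groth.Agent.H23LinSer

open Groth.Agent.H23FunFld

variable {k K : Type*} [Field k] [Field K] [Algebra k K] [IsAlgClosed k]
  (hK : FunFld.IsFunctionField k K)
include hK

/-- If `V ∩ L(E)` is nonzero and `deg E = 0`, some member has divisor `-E`. -/
theorem exists_exact {V : Submodule k K} {E : FunFld.Divisor k K} (hE : E.deg = 0)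
    (h : 0 < Module.finrank k ↥(V ⊓ FunFld.L E)) :
    ∃ f ∈ V, f ≠ 0 ∧ FunFld.div k f + E = 0 := by
  have := finiteDimensional_vd hK V E
  obtain ⟨⟨f, hf⟩, hf0⟩ := Module.finrank_pos_iff_exists_ne_zero.1 h
  have hne : f ≠ 0 := fun h => hf0 (Subtype.ext h)
  refine ⟨f, hf.1, hne, deg_nonneg_lt hK ?_ (by rw [deg_add, deg_div hK, hE]; rfl)⟩
  intro P
  have := (val_le_exp_iff P hne).1 (hf.2 P)
  simp only [Finsupp.coe_zero, Pi.zero_apply, Finsupp.add_apply, div_apply hK]
  omega

theorem finrank_inf_le_one {V : Submodule k K} {E : FunFld.Divisor k K} (hE : E.deg = 0) :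
    Module.finrank k ↥(V ⊓ FunFld.L E) ≤ 1 :=
  have := finiteDimensional_L hK E
  le_trans (Submodule.finrank_mono inf_le_right) (ell_le_one_of_deg_zero hK hE)

theorem eq_const_of_ord_eq_zero {x : K} (h : ∀ P : FunFld.Place k K, P.ord x = 0) :
    ∃ c : k, algebraMap k K c = x := by
  by_contra hc
  obtain ⟨P, hP⟩ := exists_zero hK (x := x) hc
  have := h P
  omega

theorem ord_pow' (P : FunFld.Place k K) {x : K} (hx : x ≠ 0) (n : ℕ) :
    P.ord (x ^ n) = n * P.ord x := by
  induction n with
  | zero =>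
    rw [pow_zero, ← map_one (algebraMap k K), ord_const]
    simp
  | succ n ih =>
    rw [pow_succ, ord_mul P (pow_ne_zero _ hx) hx, ih]
    push_cast
    ring

/-- `t - c` has only simple zeros for a coordinate `t`. -/
theorem ord_coord_sub_const {t : K} {B : FunFld.Place k K} (ht : t ≠ 0)
    (hB : B.1 t = WithZero.exp 1) (hint : ∀ P, P ≠ B → P.1 t ≤ 1) {c : k} {P : FunFld.Place k K}
    (hP : P ≠ B) (h : P.1 (t - algebraMap k K c) < 1) :
    P.ord (t - algebraMap k K c) = 1 := by
  classical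
  set u := t - algebraMap k K c
  have hu0 : u ≠ 0 := by
    intro h0
    rw [sub_eq_zero] at h0
    rw [val_eq_exp B ht, h0, ord_const, WithZero.exp_inj] at hB
    omega
  have h1 : 0 < P.ord u := (val_lt_one_iff P hu0).1 h
  have h2 : Finsupp.single P (P.ord u) ≤ FunFld.div k u + Finsupp.single B 1 := by
    intro R
    simp only [Finsupp.add_apply, div_apply hK, Finsupp.single_apply]
    by_cases hRB : B = R
    · subst hRB
      rw [if_neg hP, if_pos rfl]
      have h3 : B.1 u ≤ WithZero.exp 1 := by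
        refine (B.1.map_sub _ _).trans (max_le hB.le ((B.2.1 _).trans ?_))
        rw [← WithZero.exp_zero, WithZero.exp_le_exp]; omega
      have := (val_le_exp_iff B hu0).1 h3
      omega
    · rw [if_neg hRB]
      have h3 : 0 ≤ R.ord u := (val_le_one_iff R hu0).1
        ((R.1.map_sub _ _).trans (max_le (hint R (Ne.symm hRB)) (R.2.1 _)))
      split
      · subst_vars; omega
      · omega
  have h3 := deg_mono h2
  rw [deg_add, deg_div hK, deg_single, deg_single, deg_eq_one hK, deg_eq_one hK] at h3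
  simp at h3
  omega

/-- A function with one zero and one pole takes no nonzero value with multiplicity. -/
theorem ord_sub_const_le_one [CharZero k] (hg : FunFld.genus k K = 0) {Z B : FunFld.Place k K}
    {h : K} (hh : h ≠ 0) (hZ : 0 < Z.ord h) (hZB : Z ≠ B)
    (hsupp : ∀ R, R ≠ Z → R ≠ B → R.ord h = 0) {Q : FunFld.Place k K} (hQZ : Q ≠ Z)
    (hQB : Q ≠ B) (c : k) : Q.ord (h - algebraMap k K c) ≤ 1 := by
  obtain ⟨t, ht, hBt, hZt, hothers, htr, hint, -⟩ := exists_coord hK hg hZB
  obtain ⟨m, hm⟩ : ∃ m : ℕ, (m : ℤ) = Z.ord h := ⟨(Z.ord h).toNat, Int.toNat_of_nonneg hZ.le⟩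
  have hx0 : h * (t ^ m)⁻¹ ≠ 0 := mul_ne_zero hh (inv_ne_zero (pow_ne_zero _ ht))
  have hx : ∀ R, R ≠ B → R.ord (h * (t ^ m)⁻¹) = 0 := by
    intro R hR
    rw [ord_mul R hh (inv_ne_zero (pow_ne_zero _ ht)), ord_inv, ord_pow' hK R ht]
    rcases eq_or_ne R Z with rfl | hRZ
    · rw [hZt, hm]; ring
    · rw [hsupp R hRZ hR, hothers R hRZ hR]; simp
  have hBx : B.ord (h * (t ^ m)⁻¹) = 0 := by
    have e : FunFld.div k (h * (t ^ m)⁻¹) = Finsupp.single B (B.ord (h * (t ^ m)⁻¹)) := by
      ext R
      rw [div_apply hK]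
      rcases eq_or_ne R B with rfl | hR
      · rw [Finsupp.single_eq_same]
      · rw [Finsupp.single_eq_of_ne hR, hx R hR]
    have := congrArg FunFld.Divisor.deg e
    rw [deg_div hK, deg_single, deg_eq_one hK] at this
    simpa using this.symm
  obtain ⟨a, ha⟩ := eq_const_of_ord_eq_zero hK (x := h * (t ^ m)⁻¹) fun R => by
    rcases eq_or_ne R B with rfl | hR
    · exact hBx
    · exact hx R hR
  rw [← div_eq_mul_inv, eq_div_iff (pow_ne_zero _ ht)] at ha
  rcases eq_or_ne c 0 with rfl | hc
  · rw [map_zero, sub_zero, hsupp Q hQZ hQB]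
    omega
  let p : Polynomial k := Polynomial.C a * Polynomial.X ^ m - Polynomial.C c
  have hpe : Polynomial.aeval t p = h - algebraMap k K c := by simp [p, ha]
  rcases eq_or_ne (h - algebraMap k K c) 0 with h0 | h0
  · rw [h0, ord_zero]; omega
  obtain ⟨e, he⟩ := exists_sub_const hK (hint Q hQB)
  rw [← hpe, ord_aeval_of_ne hK (hint Q hQB) he (by rwa [hpe])
    (ord_coord_sub_const hK ht hBt hint hQB he)]
  have hm0 : m ≠ 0 := by omega
  have ha0 : a ≠ 0 := by rintro rfl; rw [map_zero, zero_mul] at ha; exact hh ha.symm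
  norm_cast
  by_contra hlt
  have hd : Polynomial.derivative p = Polynomial.C (a * m) * Polynomial.X ^ (m - 1) := by
    rw [show p = Polynomial.C a * Polynomial.X ^ m - Polynomial.C c from rfl, Polynomial.derivative_sub,
      Polynomial.derivative_C, sub_zero, Polynomial.derivative_C_mul_X_pow]
  have hr := Polynomial.one_lt_rootMultiplicity_iff_isRoot
    (p := p) (t := e) (fun hp => h0 (by rw [← hpe, hp, map_zero])) |>.1 (by omega)
  have h1 : p.eval e = 0 := hr.1
  have h2 : (Polynomial.derivative p).eval e = 0 := hr.2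
  rw [hd] at h2
  simp [ha0, hm0] at h2
  simp [p, h2.1, hm0, hc] at h1

end Groth.Agent.H23LinSer
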